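import Mathlib

/-!
# Generation of `SL(V)` and `Sp(V, B)` by transvections, without bases

`sl_le`: a subgroup of `V ≃ₗ[F] V` containing all transvections contains all maps of determinant one.
`sp_le`: a subgroup containing all symplectic transvections `x ↦ x + c B(x, a) a` contains all
isometries of the nondegenerate alternating form `B`.
-/

set_option autoImplicit false

namespace Cfsg.Agent.H741

open Module

section

variable {F : Type*} [Field F] {V : Type*} [AddCommGroup V] [Module F V]

/-- The fixed space of `g`. -/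
def fx (g : V ≃ₗ[F] V) : Submodule F V := LinearMap.fixedSubmodule (g : V →ₗ[F] V)

theorem mem_fx {g : V ≃ₗ[F] V} {x : V} : x ∈ fx g ↔ g x = x :=
  LinearMap.mem_fixedSubmodule_iff

theorem tv_apply {f : Dual F V} {v : V} (h : f v = 0) (x : V) :
    LinearEquiv.transvection h x = x + f x • v := rfl

theorem tv_inv_apply {f : Dual F V} {v : V} (h : f v = 0) (x : V) :
    (LinearEquiv.transvection h)⁻¹ x = x - f x • v := by
  rw [LinearEquiv.transvection.inv_eq h (by simp [h]), tv_apply, smul_neg, sub_eq_add_neg]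

/-- A functional vanishing on `W` with value one at `v ∉ W`. -/
theorem exists_dual {W : Submodule F V} {v : V} (hv : v ∉ W) :
    ∃ f : Dual F V, f v = 1 ∧ ∀ w ∈ W, f w = 0 := by
  obtain ⟨f, hf, hW⟩ := Submodule.exists_dual_map_eq_bot_of_notMem hv inferInstance
  refine ⟨(f v)⁻¹ • f, by simp [hf], fun w hw => ?_⟩
  have : f w ∈ W.map f := Submodule.mem_map_of_mem hw
  rw [hW, Submodule.mem_bot] at this
  simp [this]

/-- If `v` is not in `Fix(g) + ⟨g v - v⟩`, some transvection `t` has `Fix(g) < Fix(t⁻¹ g)`. -/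
theorem exists_tv_lt {g : V ≃ₗ[F] V} {v : V} (hv : v ∉ fx g ⊔ Submodule.span F {g v - v}) :
    ∃ (f : Dual F V) (a : V) (h : f a = 0), fx g < fx ((LinearEquiv.transvection h)⁻¹ * g) := by
  obtain ⟨f, hf1, hf0⟩ := exists_dual hv
  have h : f (g v - v) = 0 := hf0 _ (Submodule.mem_sup_right (Submodule.mem_span_singleton_self _))
  refine ⟨f, g v - v, h, lt_of_le_of_ne ?_ ?_⟩
  · intro x hx
    rw [mem_fx] at hx ⊢
    change (LinearEquiv.transvection h)⁻¹ (g x) = x
    rw [hx, tv_inv_apply, hf0 x (Submodule.mem_sup_left (mem_fx.2 hx)), zero_smul, sub_zero]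
  · intro he
    have hv2 : v ∈ fx ((LinearEquiv.transvection h)⁻¹ * g) := by
      rw [mem_fx]
      change (LinearEquiv.transvection h)⁻¹ (g v) = v
      have h3 : f (g v) = 1 := by
        have := h; rw [map_sub, sub_eq_zero] at this; rw [this, hf1]
      rw [tv_inv_apply, h3, one_smul, sub_sub_cancel]
    rw [← he] at hv2
    exact hv (Submodule.mem_sup_left hv2)

theorem one_of_fx_top {g : V ≃ₗ[F] V} (h : fx g = ⊤) : g = 1 := by
  ext x
  have : x ∈ fx g := by rw [h]; exact Submodule.mem_top
  exact mem_fx.1 this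

variable [FiniteDimensional F V]

/-- If `g` is not the identity, has determinant one and no `v` is outside `Fix(g) + ⟨g v - v⟩`, then for
some transvection `t`, `t g` fixes `Fix(g)` and has such a vector. -/
theorem exists_tv_good {g : V ≃ₗ[F] V} (hg : LinearMap.det (g : V →ₗ[F] V) = 1) (hg1 : g ≠ 1)
    (hb : ∀ v, v ∈ fx g ⊔ Submodule.span F {g v - v}) :
    (∃ (f : Dual F V) (a : V) (h : f a = 0), g = LinearEquiv.transvection h) ∨
    ∃ (f : Dual F V) (a : V) (h : f a = 0), fx g ≤ fx (LinearEquiv.transvection h * g) ∧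
      ∃ v, v ∉ fx g ⊔ Submodule.span F {(LinearEquiv.transvection h * g) v - v} := by
  have hne : fx g ≠ ⊤ := fun h => hg1 (one_of_fx_top h)
  obtain ⟨v, hv⟩ : ∃ v, v ∉ fx g := by
    by_contra hc; push Not at hc
    exact hne (eq_top_iff.2 fun x _ => hc x)
  by_cases hw : ∃ w, w ∉ fx g ⊔ Submodule.span F {v}
  · right
    obtain ⟨w, hw⟩ := hw
    -- a functional with f v = 1, f w = 0
    have hvw : v ∉ fx g ⊔ Submodule.span F {w} := by
      intro h
      obtain ⟨x, hx, y, hy, hxy⟩ := Submodule.mem_sup.1 h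
      obtain ⟨c, rfl⟩ := Submodule.mem_span_singleton.1 hy
      have hc : c ≠ 0 := by
        rintro rfl
        rw [zero_smul, add_zero] at hxy
        exact hv (hxy ▸ hx)
      apply hw
      have : w = (-c⁻¹) • x + c⁻¹ • v := by
        rw [← hxy, smul_add, smul_smul, inv_mul_cancel₀ hc, one_smul, neg_smul]; abel
      rw [this]
      exact Submodule.add_mem _ (Submodule.mem_sup_left (Submodule.smul_mem _ _ hx))
        (Submodule.mem_sup_right (Submodule.smul_mem _ _ (Submodule.mem_span_singleton_self _)))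
    obtain ⟨f, hf1, hf0⟩ := exists_dual hvw
    have hfw : f w = 0 := hf0 _ (Submodule.mem_sup_right (Submodule.mem_span_singleton_self _))
    have hfx : ∀ x ∈ fx g, f x = 0 := fun x hx => hf0 _ (Submodule.mem_sup_left hx)
    refine ⟨f, w, hfw, ?_, v, ?_⟩
    · intro x hx
      rw [mem_fx]
      change LinearEquiv.transvection hfw (g x) = x
      rw [mem_fx.1 hx, tv_apply, hfx x hx, zero_smul, add_zero]
    · intro hmem
      obtain ⟨x, hx, y, hy, hxy⟩ := Submodule.mem_sup.1 (hb v)
      obtain ⟨c, rfl⟩ := Submodule.mem_span_singleton.1 hy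
      have hc : c ≠ 0 := by
        rintro rfl
        rw [zero_smul, add_zero] at hxy
        exact hv (hxy ▸ hx)
      -- g v = v + c⁻¹ (v - x)
      have hgv : g v = v + c⁻¹ • (v - x) := by
        have : v - x = c • (g v - v) := by
          rw [sub_eq_iff_eq_add, add_comm]; exact hxy.symm
        rw [this, smul_smul, inv_mul_cancel₀ hc, one_smul]; abel
      have hfgv : f (g v) = 1 + c⁻¹ := by
        rw [hgv, map_add, map_smul, map_sub, hf1, hfx x hx]; simp
      have hne0 : (1 + c⁻¹ : F) ≠ 0 := by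
        intro h0
        have h1 : g v ∈ fx g := by
          have : g v = (1 + c⁻¹) • v - c⁻¹ • x := by
            rw [hgv, add_smul, one_smul, smul_sub]; abel
          rw [this, h0, zero_smul, zero_sub]
          exact Submodule.neg_mem _ (Submodule.smul_mem _ _ hx)
        rw [mem_fx] at h1
        exact hv (mem_fx.2 (g.injective h1))
      obtain ⟨x', hx', y', hy', hxy'⟩ := Submodule.mem_sup.1 hmem
      obtain ⟨d, rfl⟩ := Submodule.mem_span_singleton.1 hy'
      have hval : (LinearEquiv.transvection hfw * g) v - v = c⁻¹ • (v - x) + (1 + c⁻¹) • w := by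
        change LinearEquiv.transvection hfw (g v) - v = _
        rw [tv_apply, hfgv, hgv]; abel
      rw [hval] at hxy'
      by_cases hd : d = 0
      · rw [hd, zero_smul, add_zero] at hxy'
        exact hv (hxy' ▸ hx')
      · apply hw
        have hw2 : w = (d * (1 + c⁻¹))⁻¹ • ((1 - d * c⁻¹) • v + (d * c⁻¹) • x - x') := by
          have h5 : (d * (1 + c⁻¹)) • w = (1 - d * c⁻¹) • v + (d * c⁻¹) • x - x' := by
            have h6 : v - x' = d • (c⁻¹ • (v - x) + (1 + c⁻¹) • w) := by
              rw [sub_eq_iff_eq_add, add_comm]; exact hxy'.symm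
            rw [smul_add, smul_smul, smul_smul, smul_sub] at h6
            rw [sub_smul, one_smul]
            have h7 : (d * (1 + c⁻¹)) • w = v - x' - ((d * c⁻¹) • v - (d * c⁻¹) • x) := by
              rw [h6]; abel
            rw [h7]; abel
          rw [← h5, smul_smul, inv_mul_cancel₀ (mul_ne_zero hd hne0), one_smul]
        rw [hw2]
        refine Submodule.smul_mem _ _ (Submodule.sub_mem _ (Submodule.add_mem _ ?_ ?_) ?_)
        · exact Submodule.mem_sup_right (Submodule.smul_mem _ _ (Submodule.mem_span_singleton_self _))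
        · exact Submodule.mem_sup_left (Submodule.smul_mem _ _ hx)
        · exact Submodule.mem_sup_left hx'
  · left
    push Not at hw
    obtain ⟨f, hf1, hf0⟩ := exists_dual hv
    have hgf : (g : V →ₗ[F] V) = LinearMap.transvection f (g v - v) := by
      ext y
      obtain ⟨x, hx, z, hz, hxy⟩ := Submodule.mem_sup.1 (hw y)
      obtain ⟨c, rfl⟩ := Submodule.mem_span_singleton.1 hz
      have h1 : g x = x := mem_fx.1 hx
      rw [← hxy, LinearMap.transvection.apply]
      change g (x + c • v) = _
      rw [map_add, map_smul, h1, map_add, map_smul, hf0 x hx, hf1]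
      simp only [smul_eq_mul, mul_one, zero_add, smul_sub]
      abel
    have hdet := hg
    rw [hgf, LinearMap.transvection.det] at hdet
    have h0 : f (g v - v) = 0 := by simpa using hdet
    refine ⟨f, g v - v, h0, ?_⟩
    apply LinearEquiv.toLinearMap_injective
    rw [hgf]; rfl

theorem det_tv_mul {f : Dual F V} {a : V} (h : f a = 0) (g : V ≃ₗ[F] V) :
    LinearMap.det ((LinearEquiv.transvection h * g : V ≃ₗ[F] V) : V →ₗ[F] V) =
      LinearMap.det (g : V →ₗ[F] V) := by
  have : ((LinearEquiv.transvection h * g : V ≃ₗ[F] V) : V →ₗ[F] V) =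
      (LinearMap.transvection f a) * (g : V →ₗ[F] V) := rfl
  rw [this, map_mul, LinearMap.transvection.det, h, add_zero, one_mul]

theorem det_tv_inv_mul {f : Dual F V} {a : V} (h : f a = 0) (g : V ≃ₗ[F] V) :
    LinearMap.det (((LinearEquiv.transvection h)⁻¹ * g : V ≃ₗ[F] V) : V →ₗ[F] V) =
      LinearMap.det (g : V →ₗ[F] V) := by
  rw [LinearEquiv.transvection.inv_eq h (by simp [h])]
  exact det_tv_mul _ g

theorem fx_finrank_lt {g g' : V ≃ₗ[F] V} (h : fx g < fx g') :
    finrank F V - finrank F (fx g') < finrank F V - finrank F (fx g) := by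
  have h1 := Submodule.finrank_lt_finrank_of_lt h
  have h2 := Submodule.finrank_le (fx g')
  omega

/-- **`SL(V)` is generated by the transvections.** -/
theorem sl_le (G : Subgroup (V ≃ₗ[F] V))
    (hG : ∀ (f : Dual F V) (a : V) (h : f a = 0), LinearEquiv.transvection h ∈ G)
    {g : V ≃ₗ[F] V} (hg : LinearMap.det (g : V →ₗ[F] V) = 1) : g ∈ G := by
  induction hn : finrank F V - finrank F (fx g) using Nat.strong_induction_on generalizing g with
  | _ n ih =>
    by_cases hg1 : g = 1
    · rw [hg1]; exact G.one_mem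
    by_cases hb : ∀ v, v ∈ fx g ⊔ Submodule.span F {g v - v}
    · rcases exists_tv_good hg hg1 hb with ⟨f, a, h, rfl⟩ | ⟨f, a, h, hle, v, hv⟩
      · exact hG f a h
      · set g' := LinearEquiv.transvection h * g with hg'
        have hmem : g' ∈ G := by
          by_cases hlt : fx g < fx g'
          · exact ih _ (hn ▸ fx_finrank_lt hlt) (by rw [hg', det_tv_mul, hg]) rfl
          · have heq : fx g = fx g' := by
              rcases hle.lt_or_eq with h1 | h1
              · exact absurd h1 hlt
              · exact h1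
            rw [heq] at hv
            obtain ⟨f', a', h', hlt'⟩ := exists_tv_lt hv
            have : (LinearEquiv.transvection h')⁻¹ * g' ∈ G := by
              refine ih _ ?_ (by rw [det_tv_inv_mul, hg', det_tv_mul, hg]) rfl
              rw [← hn, heq]
              exact fx_finrank_lt hlt'
            simpa using G.mul_mem (hG f' a' h') this
        have : g = (LinearEquiv.transvection h)⁻¹ * g' := by rw [hg', inv_mul_cancel_left]
        rw [this]
        exact G.mul_mem (G.inv_mem (hG f a h)) hmem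
    · push Not at hb
      obtain ⟨v, hv⟩ := hb
      obtain ⟨f', a', h', hlt'⟩ := exists_tv_lt hv
      have : (LinearEquiv.transvection h')⁻¹ * g ∈ G :=
        ih _ (hn ▸ fx_finrank_lt hlt') (by rw [det_tv_inv_mul, hg]) rfl
      simpa using G.mul_mem (hG f' a' h') this

end

/-! ### The symplectic case -/

section

variable {F : Type*} [Field F] {V : Type*} [AddCommGroup V] [Module F V]

theorem stv_aux {B : LinearMap.BilinForm F V} (hB : B.IsAlt) (a : V) (c : F) :
    (c • B.flip a : Dual F V) a = 0 := by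
  have : B a a = 0 := hB a
  simp [LinearMap.BilinForm.flip_apply, this]

/-- The symplectic transvection `x ↦ x + c B(x, a) a`. -/
def stv {B : LinearMap.BilinForm F V} (hB : B.IsAlt) (a : V) (c : F) : V ≃ₗ[F] V :=
  LinearEquiv.transvection (stv_aux hB a c)

theorem stv_apply {B : LinearMap.BilinForm F V} (hB : B.IsAlt) (a : V) (c : F) (x : V) :
    stv hB a c x = x + (c * B x a) • a := rfl

theorem stv_inv_apply {B : LinearMap.BilinForm F V} (hB : B.IsAlt) (a : V) (c : F) (x : V) :
    (stv hB a c)⁻¹ x = x - (c * B x a) • a := tv_inv_apply _ _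

theorem stv_isom {B : LinearMap.BilinForm F V} (hB : B.IsAlt) (a : V) (c : F) (x y : V) :
    B (stv hB a c x) (stv hB a c y) = B x y := by
  have haa : B a a = 0 := hB a
  have hs : B a y = - B y a := (hB.neg_eq y a).symm
  rw [stv_apply, stv_apply]
  simp only [map_add, map_smul, LinearMap.add_apply, LinearMap.smul_apply, smul_eq_mul, haa, hs]
  ring

theorem stv_inv_isom {B : LinearMap.BilinForm F V} (hB : B.IsAlt) (a : V) (c : F) (x y : V) :
    B ((stv hB a c)⁻¹ x) ((stv hB a c)⁻¹ y) = B x y := by
  have h := stv_isom hB a c ((stv hB a c)⁻¹ x) ((stv hB a c)⁻¹ y)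
  have e1 : ∀ z, stv hB a c ((stv hB a c)⁻¹ z) = z := fun z =>
    LinearEquiv.apply_symm_apply (stv hB a c) z
  rw [e1, e1] at h
  exact h.symm

theorem sp_exists_lt {B : LinearMap.BilinForm F V} (hB : B.IsAlt) {g : V ≃ₗ[F] V}
    (hg : ∀ x y, B (g x) (g y) = B x y) {v : V} (hv : B (g v) v ≠ 0) :
    ∃ (a : V) (c : F), fx g < fx ((stv hB a c)⁻¹ * g) := by
  have hvg : B v (g v) = - B (g v) v := (hB.neg_eq (g v) v).symm
  have hne : B v (g v) ≠ 0 := by rw [hvg]; exact neg_ne_zero.2 hv
  refine ⟨g v - v, (B v (g v))⁻¹, lt_of_le_of_ne ?_ ?_⟩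
  · intro x hx
    rw [mem_fx] at hx ⊢
    change (stv hB _ _)⁻¹ (g x) = x
    have : B x (g v - v) = 0 := by
      rw [map_sub, sub_eq_zero]
      conv_lhs => rw [← hx]
      exact hg x v
    rw [hx, stv_inv_apply, this, mul_zero, zero_smul, sub_zero]
  · intro he
    have hv2 : v ∈ fx ((stv hB (g v - v) (B v (g v))⁻¹)⁻¹ * g) := by
      rw [mem_fx]
      change (stv hB _ _)⁻¹ (g v) = v
      have h1 : B (g v) (g v - v) = B v (g v) := by
        have h2 : B (g v) (g v) = 0 := hB _
        rw [map_sub, h2, zero_sub, hvg]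
      rw [stv_inv_apply, h1, inv_mul_cancel₀ hne, one_smul, sub_sub_cancel]
    rw [← he, mem_fx] at hv2
    rw [hv2] at hv
    exact hv (hB v)

theorem exists_both {f₁ f₂ : Dual F V} (h₁ : f₁ ≠ 0) (h₂ : f₂ ≠ 0) :
    ∃ v, f₁ v ≠ 0 ∧ f₂ v ≠ 0 := by
  obtain ⟨v₁, hv₁⟩ : ∃ v, f₁ v ≠ 0 := by
    by_contra hc; push Not at hc; exact h₁ (LinearMap.ext hc)
  obtain ⟨v₂, hv₂⟩ : ∃ v, f₂ v ≠ 0 := by
    by_contra hc; push Not at hc; exact h₂ (LinearMap.ext hc)
  by_cases h3 : f₂ v₁ = 0
  · by_cases h4 : f₁ v₂ = 0
    · exact ⟨v₁ + v₂, by rw [map_add, h4, add_zero]; exact hv₁, by rw [map_add, h3, zero_add]; exact hv₂⟩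
    · exact ⟨v₂, h4, hv₂⟩
  · exact ⟨v₁, hv₁, h3⟩

variable [FiniteDimensional F V]

/-- **The isometry group of a nondegenerate alternating form is generated by symplectic transvections.** -/
theorem sp_le {B : LinearMap.BilinForm F V} (hB : B.IsAlt) (hnd : B.Nondegenerate)
    (G : Subgroup (V ≃ₗ[F] V)) (hG : ∀ (a : V) (c : F), stv hB a c ∈ G)
    {g : V ≃ₗ[F] V} (hg : ∀ x y, B (g x) (g y) = B x y) : g ∈ G := by
  induction hn : finrank F V - finrank F (fx g) using Nat.strong_induction_on generalizing g with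
  | _ n ih =>
    have key : ∀ g' : V ≃ₗ[F] V, (∀ x y, B (g' x) (g' y) = B x y) → fx g ≤ fx g' →
        (∃ v, B (g' v) v ≠ 0) → g' ∈ G := by
      rintro g' hg' hle ⟨v, hv⟩
      obtain ⟨a, c, hlt⟩ := sp_exists_lt hB hg' hv
      have : (stv hB a c)⁻¹ * g' ∈ G := by
        refine ih _ (hn ▸ fx_finrank_lt (lt_of_le_of_lt hle hlt)) ?_ rfl
        intro x y
        change B ((stv hB a c)⁻¹ (g' x)) ((stv hB a c)⁻¹ (g' y)) = B x y
        rw [stv_inv_isom, hg']
      simpa using G.mul_mem (hG a c) this
    by_cases hg1 : g = 1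
    · rw [hg1]; exact G.one_mem
    by_cases hb : ∃ v, B (g v) v ≠ 0
    · exact key g hg le_rfl hb
    push Not at hb
    obtain ⟨u, hu⟩ : ∃ u, g u ≠ u := by
      by_contra hc; push Not at hc; exact hg1 (LinearEquiv.ext hc)
    set a := g u - u with ha
    have ha0 : a ≠ 0 := sub_ne_zero.2 hu
    set g' := stv hB a 1 * g with hg'
    have hg'i : ∀ x y, B (g' x) (g' y) = B x y := by
      intro x y
      change B (stv hB a 1 (g x)) (stv hB a 1 (g y)) = B x y
      rw [stv_isom, hg]
    have hf : (B.flip a : Dual F V) ≠ 0 := by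
      intro h0
      apply ha0
      have hs : ∀ x, B x a = 0 := fun x => by
        have := LinearMap.congr_fun h0 x
        simpa [LinearMap.BilinForm.flip_apply] using this
      exact hnd.2 a hs
    have hf' : ((B.flip a : Dual F V) ∘ₗ (g : V →ₗ[F] V)) ≠ 0 := by
      intro h0
      apply hf
      ext x
      have := LinearMap.congr_fun h0 (g.symm x)
      simpa using this
    obtain ⟨v, hv1, hv2⟩ := exists_both hf hf'
    have hmem : g' ∈ G := by
      refine key g' hg'i ?_ ⟨v, ?_⟩
      · intro x hx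
        rw [mem_fx] at hx ⊢
        change stv hB a 1 (g x) = x
        have : B x a = 0 := by
          rw [ha, map_sub, sub_eq_zero]
          conv_lhs => rw [← hx]
          exact hg x u
        rw [hx, stv_apply, this, mul_zero, zero_smul, add_zero]
      · change B (stv hB a 1 (g v)) v ≠ 0
        have e1 : B (g v) a ≠ 0 := by simpa [LinearMap.BilinForm.flip_apply] using hv2
        have e2 : B v a ≠ 0 := by simpa [LinearMap.BilinForm.flip_apply] using hv1
        have e3 : B a v = - B v a := (hB.neg_eq v a).symm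
        rw [stv_apply]
        simp only [map_add, map_smul, LinearMap.add_apply, LinearMap.smul_apply, smul_eq_mul, hb v,
          zero_add, one_mul, e3]
        exact mul_ne_zero e1 (neg_ne_zero.2 e2)
    have : g = (stv hB a 1)⁻¹ * g' := by rw [hg', inv_mul_cancel_left]
    rw [this]
    exact G.mul_mem (G.inv_mem (hG a 1)) hmem

end

end Cfsg.Agent.H741
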